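import Mathlib
import Groth.Agent.FlatMor12.GeomDescent
import Groth.Agent.AbVarLib.PerfectReduced
import Groth.Agent.VarietyLib.GeomComponents
import Groth.Agent.VarietyLib.GeomField

/-!
# Geometric properties of schemes over fields
-/

set_option autoImplicit false
set_option backward.isDefEq.respectTransparency false

universe u

open CategoryTheory CategoryTheory.Limits AlgebraicGeometry TensorProduct

namespace Groth.Agent.FBaseLib

/-- A morphism of spectra of fields is surjective. -/
theorem surjective_to_field {K : Type u} [Field K] {W : Scheme.{u}} [Nonempty W] (a : W ⟶ Spec (CommRingCat.of K)) :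
    Surjective a :=
  ⟨fun x => ⟨Classical.arbitrary W, Subsingleton.elim (α := PrimeSpectrum K) _ _⟩⟩

/-- A point of the source over a given field-valued point, after extending the field. -/
theorem exists_lift_point {Y Y' : Scheme.{u}} (g : Y' ⟶ Y) [Surjective g] {K : Type u} [Field K]
    (y : Spec (CommRingCat.of K) ⟶ Y) :
    ∃ (L : Type u) (_ : Field L) (i : K →+* L) (σ : Spec (CommRingCat.of L) ⟶ Y'),
      σ ≫ g = Spec.map (CommRingCat.ofHom i) ≫ y := by
  haveI : Surjective (pullback.fst y g) := MorphismProperty.pullback_fst _ _ inferInstance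
  obtain ⟨w, -⟩ := (pullback.fst y g).surjective (IsLocalRing.closedPoint K)
  let L := (pullback y g).residueField w
  let a : Spec L ⟶ Spec (CommRingCat.of K) := (pullback y g).fromSpecResidueField w ≫ pullback.fst y g
  obtain ⟨φ, hφ⟩ := Spec.map_surjective a
  refine ⟨L, inferInstance, φ.hom, (pullback y g).fromSpecResidueField w ≫ pullback.snd y g, ?_⟩
  rw [Category.assoc, ← pullback.condition, ← Category.assoc, CommRingCat.ofHom_hom, hφ]

/-- Geometric properties descend along surjective morphisms of the base. -/
theorem geometrically_of_surjective {P : ObjectProperty Scheme.{u}}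
    (hP : ∀ ⦃A B : Scheme.{u}⦄ (h : A ⟶ B), Surjective h → Flat h → P A → P B)
    {X Y Y' : Scheme.{u}} (f : X ⟶ Y) (g : Y' ⟶ Y) [Surjective g] (h : geometrically P (pullback.snd f g)) :
    geometrically P f := by
  intro K _ y Z fst snd hK
  obtain ⟨L, _, i, σ, hσ⟩ := exists_lift_point g y
  let a := Spec.map (CommRingCat.ofHom i)
  haveI : Surjective a := surjective_to_field a
  haveI : Flat a := inferInstance
  have hL := (IsPullback.of_hasPullback snd a).flip.flip
  have hbig : IsPullback (pullback.fst snd a ≫ fst) (pullback.snd snd a) f (σ ≫ g) :=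
    hσ.symm ▸ hL.paste_horiz hK
  let m : pullback snd a ⟶ pullback f g :=
    pullback.lift (pullback.fst snd a ≫ fst) (pullback.snd snd a ≫ σ) (by simp [hbig.w])
  have hm : IsPullback m (pullback.snd snd a) (pullback.snd f g) σ :=
    IsPullback.of_right (by simpa [m] using hbig) (by simp [m]) (IsPullback.of_hasPullback f g)
  exact hP (pullback.fst snd a) inferInstance inferInstance (h σ m (pullback.snd snd a) hm)

/-- Geometric properties that pass to images pass along surjective morphisms of the source. -/
theorem geometrically_of_surjective_source {P : ObjectProperty Scheme.{u}}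
    (hP : ∀ ⦃A B : Scheme.{u}⦄ (h : A ⟶ B), Surjective h → P A → P B)
    {X Y S : Scheme.{u}} (g : Y ⟶ S) (h : X ⟶ Y) [Surjective h] (hf : geometrically P (h ≫ g)) :
    geometrically P g := by
  intro K _ y Z fst snd hK
  have hL := IsPullback.of_hasPullback h fst
  exact hP (pullback.snd h fst) (MorphismProperty.pullback_snd _ _ inferInstance)
    (hf y (pullback.fst h fst) (pullback.snd h fst ≫ snd) (hL.paste_vert hK))

/-- Geometric irreducibility from irreducibility, over an algebraically closed field. -/
theorem geometricallyIrreducible_of_isAlgClosed {k : Type u} [Field k] [IsAlgClosed k] {X : Scheme.{u}}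
    (f : X ⟶ Spec (CommRingCat.of k)) [IrreducibleSpace X] : GeometricallyIrreducible f := by
  let L := SeparableClosure k
  have hb : Function.Bijective (algebraMap k L) := IsAlgClosed.algebraMap_bijective_of_isIntegral
  haveI : IsIso (Spec.map (CommRingCat.ofHom (algebraMap k L))) := by
    haveI : IsIso (CommRingCat.ofHom (algebraMap k L)) :=
      (RingEquiv.ofBijective (algebraMap k L) hb).toCommRingCatIso.isIso_hom
    infer_instance
  haveI : IrreducibleSpace ↥(pullback f (VarietyLib.sK k (SeparableClosure k))) := by
    haveI : IsIso (pullback.fst f (Spec.map (CommRingCat.ofHom (algebraMap k L)))) := inferInstance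
    exact (pullback.fst f (Spec.map (CommRingCat.ofHom (algebraMap k L)))).homeomorph.irreducibleSpace_iff.mpr inferInstance
  exact VarietyLib.geometricallyIrreducible_of_irreducibleSpace k f

/-- A generalising map with irreducible fibre over the generic point has irreducible source. -/
theorem irreducibleSpace_of_generalizingMap {α β : Type*} [TopologicalSpace α] [TopologicalSpace β] {F : α → β}
    (hF : GeneralizingMap F) {η : β} (hη : ∀ y : β, η ⤳ y) (hfib : IsIrreducible (F ⁻¹' {η})) :
    IrreducibleSpace α := by
  haveI : Nonempty α := ⟨hfib.nonempty.some⟩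
  refine { toNonempty := inferInstance, isPreirreducible_univ := fun u v hu hv ⟨a, _, ha⟩ ⟨b, _, hb⟩ => ?_ }
  obtain ⟨a', ha', haη⟩ := hF (hη (F a))
  obtain ⟨b', hb', hbη⟩ := hF (hη (F b))
  obtain ⟨c, -, hc⟩ := hfib.isPreirreducible u v hu hv ⟨a', haη, ha'.mem_open hu ha⟩ ⟨b', hbη, hb'.mem_open hv hb⟩
  exact ⟨c, Set.mem_univ c, hc⟩

/-- The preimage of a connected set under an open map with connected fibres is connected. -/
theorem isConnected_preimage {α β : Type*} [TopologicalSpace α] [TopologicalSpace β] {F : α → β}
    (hF : IsOpenMap F) (hfib : ∀ y, _root_.IsConnected (F ⁻¹' {y})) {Z : Set β} (hZ : _root_.IsConnected Z) :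
    _root_.IsConnected (F ⁻¹' Z) := by
  obtain ⟨z, hz⟩ := hZ.nonempty
  refine ⟨⟨_, show F (hfib z).nonempty.some ∈ Z from (hfib z).nonempty.some_mem.symm ▸ hz⟩, ?_⟩
  intro u v hu hv huv ⟨a, ha, hau⟩ ⟨b, hb, hbv⟩
  obtain ⟨y, hy, ⟨a', hau', haY⟩, ⟨b', hbv', hbY⟩⟩ := hZ.isPreconnected (F '' u) (F '' v) (hF u hu) (hF v hv)
    (fun y hy => by
      obtain ⟨x, hx⟩ := (hfib y).nonempty
      rcases huv (show F x ∈ Z from hx.symm ▸ hy) with h | h
      · exact Or.inl ⟨x, h, hx⟩
      · exact Or.inr ⟨x, h, hx⟩)
    ⟨F a, ha, a, hau, rfl⟩ ⟨F b, hb, b, hbv, rfl⟩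
  obtain ⟨c, hcY, hc⟩ := (hfib y).isPreconnected u v hu hv
    (fun c (hc : F c = y) => huv (show F c ∈ Z from hc.symm ▸ hy)) ⟨a', haY, hau'⟩ ⟨b', hbY, hbv'⟩
  exact ⟨c, show F c ∈ Z from (show F c = y from hcY).symm ▸ hy, hc⟩

section Reduced

/-- A geometrically reduced algebra tensored with a reduced algebra is reduced. -/
theorem isReduced_tensor {k : Type u} [Field k] (A R : Type u) [CommRing A] [Algebra k A] [CommRing R] [Algebra k R]
    [_root_.IsReduced R] (hA : ∀ (K : Type u) [Field K] [Algebra k K], _root_.IsReduced (K ⊗[k] A)) :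
    _root_.IsReduced (R ⊗[k] A) := by
  classical
  refine ⟨fun z hz => ?_⟩
  let b := Module.Basis.ofVectorSpace k A
  let bR := Algebra.TensorProduct.basis R b
  have key : ∀ i, bR.repr z i = 0 := fun i => by
    have hi : bR.repr z i ∈ nilradical R := by
      rw [nilradical_eq_sInf, Ideal.mem_sInf]
      intro P (hP : P.IsPrime)
      haveI := hP
      haveI := hA P.ResidueField
      let φ : R ⊗[k] A →ₐ[k] P.ResidueField ⊗[k] A :=
        Algebra.TensorProduct.map (IsScalarTower.toAlgHom k R P.ResidueField) (AlgHom.id k A)
      have hnat : ∀ w, (Algebra.TensorProduct.basis P.ResidueField b).repr (φ w) i =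
          algebraMap R P.ResidueField (bR.repr w i) := fun w => by
        induction w using TensorProduct.induction_on with
        | zero => simp
        | add v w hv hw => rw [map_add, map_add, Finsupp.add_apply, hv, hw, map_add, Finsupp.add_apply, map_add]
        | tmul r a =>
          rw [Algebra.TensorProduct.map_tmul, Algebra.TensorProduct.basis_repr_tmul,
            Algebra.TensorProduct.basis_repr_tmul]
          simp [Algebra.smul_def, ← IsScalarTower.algebraMap_apply k R P.ResidueField]
      rw [← Ideal.algebraMap_residueField_eq_zero (I := P), ← hnat, (hz.map φ).eq_zero, map_zero, Finsupp.zero_apply]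
    rwa [nilradical_eq_zero, Ideal.zero_eq_bot, Ideal.mem_bot] at hi
  exact bR.repr.injective (by ext i; rw [key i, map_zero, Finsupp.zero_apply])

theorem aux_spec {k : Type u} [Field k] {A R : CommRingCat.{u}} (a : Spec A ⟶ Spec (CommRingCat.of k))
    (r : Spec R ⟶ Spec (CommRingCat.of k))
    (ha : ∀ (K : Type u) [Field K] [Algebra k K],
      AlgebraicGeometry.IsReduced (pullback a (Spec.map (CommRingCat.ofHom (algebraMap k K)))))
    (hR : AlgebraicGeometry.IsReduced (Spec R)) : AlgebraicGeometry.IsReduced (pullback a r) := by
  obtain ⟨φ, rfl⟩ := Spec.map_surjective a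
  obtain ⟨ψ, rfl⟩ := Spec.map_surjective r
  algebraize [φ.hom, ψ.hom]
  haveI : _root_.IsReduced R :=
    isReduced_of_injective (Scheme.ΓSpecIso R).inv.hom (Scheme.ΓSpecIso R).commRingCatIsoToRingEquiv.symm.injective
  have hA : ∀ (K : Type u) [Field K] [Algebra k K], _root_.IsReduced (K ⊗[k] A) := fun K _ _ => by
    haveI := ha K
    haveI : AlgebraicGeometry.IsReduced (Spec (CommRingCat.of (A ⊗[k] K))) :=
      @isReduced_of_isOpenImmersion _ _ (pullbackSpecIso k A K).inv inferInstance (ha K)
    haveI : _root_.IsReduced (A ⊗[k] K) :=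
      isReduced_of_injective (Scheme.ΓSpecIso (CommRingCat.of (A ⊗[k] K))).inv.hom
        (Scheme.ΓSpecIso _).commRingCatIsoToRingEquiv.symm.injective
    exact isReduced_of_injective (Algebra.TensorProduct.comm k K A) (Algebra.TensorProduct.comm k K A).injective
  haveI := isReduced_tensor A R hA
  haveI : _root_.IsReduced (A ⊗[k] R) :=
    isReduced_of_injective (Algebra.TensorProduct.comm k A R) (Algebra.TensorProduct.comm k A R).injective
  haveI : AlgebraicGeometry.IsReduced (Spec (CommRingCat.of (A ⊗[k] R))) := inferInstance
  exact isReduced_of_isOpenImmersion (pullbackSpecIso k A R).hom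

/-- The product of a geometrically reduced scheme and a reduced scheme over a field is reduced. -/
theorem isReduced_pullback {k : Type u} [Field k] {X S : Scheme.{u}} (f : X ⟶ Spec (CommRingCat.of k))
    (g : S ⟶ Spec (CommRingCat.of k)) [GeometricallyReduced f] [AlgebraicGeometry.IsReduced S] :
    AlgebraicGeometry.IsReduced (pullback f g) := by
  refine @IsReduced.of_openCover _ (Scheme.Pullback.openCoverOfLeftRight X.affineCover S.affineCover f g) fun ij => ?_
  show AlgebraicGeometry.IsReduced (pullback (X.affineCover.f ij.1 ≫ f) (S.affineCover.f ij.2 ≫ g))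
  refine aux_spec _ _ (fun K _ _ => ?_) (isReduced_of_isOpenImmersion (S.affineCover.f ij.2))
  let s := Spec.map (CommRingCat.ofHom (algebraMap k K))
  haveI : AlgebraicGeometry.IsReduced (pullback f s) :=
    GeometricallyReduced.geometrically_isReduced s _ _ (IsPullback.of_hasPullback f s)
  exact isReduced_of_isOpenImmersion (pullback.map (X.affineCover.f ij.1 ≫ f) s f s (X.affineCover.f ij.1)
    (𝟙 _) (𝟙 _) (Category.comp_id _) (by simp))

theorem geometricallyReduced_pullback {k : Type u} [Field k] {X Y : Scheme.{u}} (f : X ⟶ Spec (CommRingCat.of k))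
    (g : Y ⟶ Spec (CommRingCat.of k)) [GeometricallyReduced f] [GeometricallyReduced g] :
    GeometricallyReduced (pullback.fst f g ≫ f) := by
  refine ⟨fun K _ y Z fst snd hK => ?_⟩
  haveI : AlgebraicGeometry.IsReduced (pullback g y) :=
    GeometricallyReduced.geometrically_isReduced y _ _ (IsPullback.of_hasPullback g y)
  let w := pullback.fst g y ≫ g
  haveI := isReduced_pullback f w
  let toW : Z ⟶ pullback f w := pullback.lift (fst ≫ pullback.fst f g)
    (pullback.lift (fst ≫ pullback.snd f g) snd (by rw [Category.assoc, ← hK.w, pullback.condition]))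
    (by simp only [w, Category.assoc, pullback.lift_fst_assoc]; rw [pullback.condition])
  let back : pullback f w ⟶ Z := hK.lift
    (pullback.lift (pullback.fst f w) (pullback.snd f w ≫ pullback.fst g y)
      (by simp [w, pullback.condition]))
    (pullback.snd f w ≫ pullback.snd g y) (by
      rw [pullback.lift_fst_assoc, pullback.condition, Category.assoc]
      simp [w, pullback.condition])
  haveI : IsIso toW := ⟨back, by
      apply hK.hom_ext
      · simp only [Category.assoc, back, hK.lift_fst]
        apply pullback.hom_ext <;> simp [toW]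
      · simp [toW, back], by
      apply pullback.hom_ext
      · simp [toW, back]
      · apply pullback.hom_ext <;> simp [toW, back]⟩
  exact isReduced_of_isOpenImmersion toW

/-- Reduced after a perfect extension implies geometrically reduced. -/
theorem geometricallyReduced_of_perfect {k Ω : Type u} [Field k] [Field Ω] [Algebra k Ω] [PerfectField Ω]
    {X : Scheme.{u}} (f : X ⟶ Spec (CommRingCat.of k))
    [AlgebraicGeometry.IsReduced (pullback f (Spec.map (CommRingCat.ofHom (algebraMap k Ω))))] :
    GeometricallyReduced f := by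
  let s := Spec.map (CommRingCat.ofHom (algebraMap k Ω))
  haveI : Surjective s := surjective_to_field s
  have h := AbVarLib.geometricallyReduced_of_perfectField (pullback.snd f s)
  exact ⟨geometrically_of_surjective (P := AlgebraicGeometry.IsReduced)
    (fun A B h hs hf (_ : AlgebraicGeometry.IsReduced A) => FlatMor12.isReduced_of_flat_surjective h) f s
    h.geometrically_isReduced⟩

/-- A geometrically reduced algebra has geometrically reduced spectrum. -/
theorem geometricallyReduced_algSpec {k K : Type u} [Field k] [Field K] [Algebra k K]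
    [Algebra.IsGeometricallyReduced k K] :
    GeometricallyReduced (Spec.map (CommRingCat.ofHom (algebraMap k K))) := by
  let Ω := AlgebraicClosure k
  haveI : _root_.IsReduced (K ⊗[k] Ω) :=
    isReduced_of_injective (Algebra.TensorProduct.comm k K Ω) (Algebra.TensorProduct.comm k K Ω).injective
  haveI : AlgebraicGeometry.IsReduced (Spec (CommRingCat.of (K ⊗[k] Ω))) := inferInstance
  haveI := isReduced_of_isOpenImmersion (pullbackSpecIso k K Ω).hom
  exact geometricallyReduced_of_perfect (Ω := Ω) _

end Reduced

end Groth.Agent.FBaseLib
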