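import Mathlib
import Groth.Agent.FBaseLib.Geom

/-!
# Connected components containing geometrically connected subschemes
-/

set_option autoImplicit false
set_option backward.isDefEq.respectTransparency false

universe u

open CategoryTheory CategoryTheory.Limits AlgebraicGeometry

namespace Groth.Agent.FBaseLib

variable {k : Type u} [Field k]

/-- A connected scheme receiving a geometrically connected one is geometrically connected. -/
theorem geometricallyConnected_of_source {X Y : Scheme.{u}} (g : Y ⟶ X) (f : X ⟶ Spec (CommRingCat.of k))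
    [Nonempty Y] [ConnectedSpace X] [GeometricallyConnected (g ≫ f)] : GeometricallyConnected f := by
  refine VarietyLib.geometricallyConnected_of_finite_separable k f fun L _ _ _ _ => ?_
  let s := Spec.map (CommRingCat.ofHom (algebraMap k L))
  let p := pullback.fst f s
  haveI : IsFinite s := IsFinite.SpecMap_iff _ |>.2 ((RingHom.finite_algebraMap (A := k) (B := L)).2 inferInstance)
  haveI : IsFinite p := MorphismProperty.pullback_fst (P := @IsFinite) _ _ inferInstance
  haveI : Surjective s := surjective_to_field s
  haveI : Surjective p := MorphismProperty.pullback_fst (P := @Surjective) _ _ inferInstance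
  haveI : ConnectedSpace ↥(pullback (g ≫ f) s) :=
    GeometricallyConnected.geometrically_connectedSpace s _ _ (IsPullback.of_hasPullback _ _)
  let m : pullback (g ≫ f) s ⟶ pullback f s := pullback.map _ _ _ _ g (𝟙 _) (𝟙 _) (by simp) (by simp)
  have hm : ∀ z : ↥(pullback f s), p z ∈ Set.range g → z ∈ Set.range m := fun z ⟨y, hy⟩ => by
    rw [Scheme.Pullback.range_map]
    exact ⟨⟨y, hy⟩, Set.mem_range.2 ⟨_, rfl⟩⟩
  have hC : _root_.IsPreconnected (Set.range m) := isPreconnected_range m.continuous
  haveI : Nonempty ↥(pullback f s) := ⟨(p.surjective (Classical.arbitrary X)).choose⟩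
  refine { isPreconnected_univ := ?_, toNonempty := inferInstance }
  have hpre : PreconnectedSpace ↥(pullback f s) := by
    refine preconnectedSpace_iff_clopen.2 fun U hU => ?_
    by_contra h
    push Not at h
    obtain ⟨⟨a, ha⟩, hb⟩ := h
    obtain ⟨b, hb⟩ := (Set.ne_univ_iff_exists_notMem U).1 hb
    have key : ∀ (W : Set ↥(pullback f s)), IsClopen W → W.Nonempty → (Set.range m ∩ W).Nonempty := by
      intro W hW hne
      have himg : IsClopen (p '' W) := ⟨p.isClosedMap _ hW.1, p.isOpenMap _ hW.2⟩
      rcases isClopen_iff.1 himg with h0 | h1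
      · exact absurd h0 (hne.image _).ne_empty
      · obtain ⟨w, hw, hwy⟩ := h1.ge (Set.mem_univ (g (Classical.arbitrary Y)))
        exact ⟨w, hm w ⟨_, hwy.symm⟩, hw⟩
    have h1 := key U hU ⟨a, ha⟩
    have h2 := key Uᶜ hU.compl ⟨b, hb⟩
    obtain ⟨c, -, hc, hc'⟩ := hC U Uᶜ hU.2 hU.compl.2 (fun x _ => em (x ∈ U)) h1 h2
    exact hc' hc
  exact hpre.isPreconnected_univ

/-- A surjective closed immersion into `Y` is geometrically connected when `Y` is. -/
theorem geometricallyConnected_comp_of_surjective_closedImmersion {Y W : Scheme.{u}}
    (g : Y ⟶ Spec (CommRingCat.of k)) (i : W ⟶ Y) [IsClosedImmersion i] [Surjective i] [GeometricallyConnected g] :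
    GeometricallyConnected (i ≫ g) := by
  refine ⟨fun K _ y Z fst snd hK => ?_⟩
  haveI : ConnectedSpace ↥(pullback g y) :=
    GeometricallyConnected.geometrically_connectedSpace y _ _ (IsPullback.of_hasPullback g y)
  let q : Z ⟶ pullback g y := pullback.lift (fst ≫ i) snd (by rw [Category.assoc]; exact hK.w)
  have hsq : IsPullback fst q i (pullback.fst g y) :=
    IsPullback.of_bot (by rw [pullback.lift_snd]; exact hK) (pullback.lift_fst _ _ _).symm (IsPullback.of_hasPullback g y)
  haveI : IsClosedImmersion q := MorphismProperty.of_isPullback hsq inferInstance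
  haveI : Surjective q := MorphismProperty.of_isPullback hsq inferInstance
  exact ((q.isClosedEmbedding.isEmbedding.toHomeomorph).trans
    ((Homeomorph.setCongr q.surjective.range_eq).trans (Homeomorph.Set.univ _))).connectedSpace_iff.2 inferInstance

/-- The component of a geometrically connected subscheme is geometrically connected. -/
theorem isConnected_preimage_component {K : Type u} [Field K] [Algebra k K] {X Y : Scheme.{u}}
    (f : X ⟶ Spec (CommRingCat.of k)) (h : Y ⟶ X) [GeometricallyConnected (h ≫ f)] (y : Y) :
    _root_.IsConnected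
      ((pullback.fst f (Spec.map (CommRingCat.ofHom (algebraMap k K)))) ⁻¹' connectedComponent (h y)) := by
  let D : TopologicalSpace.Closeds X := ⟨connectedComponent (h y), isClosed_connectedComponent⟩
  let I := Scheme.IdealSheafData.vanishingIdeal D
  let ι := I.subschemeι
  have hι : Set.range ι = connectedComponent (h y) := by
    rw [Scheme.IdealSheafData.range_subschemeι]
    exact congrArg SetLike.coe (show I.support = D from TopologicalSpace.Closeds.ext rfl)
  haveI : ConnectedSpace ↥I.subscheme := by
    refine connectedSpace_iff_univ.2 ⟨?_, ?_⟩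
    · obtain ⟨a, -⟩ := hι.ge (mem_connectedComponent (x := h y))
      exact ⟨a, trivial⟩
    · rw [← ι.isClosedEmbedding.isEmbedding.isInducing.isPreconnected_image, Set.image_univ, hι]
      exact isPreconnected_connectedComponent
  haveI : ConnectedSpace ↥Y := GeometricallyConnected.connectedSpace_of_subsingleton (h ≫ f)
  let i := pullback.fst h ι
  haveI : Surjective i := ⟨Set.range_eq_univ.1 (by
    rw [Scheme.Pullback.range_fst, Set.preimage_eq_univ_iff, hι]
    exact (isPreconnected_range h.continuous).subset_connectedComponent (Set.mem_range_self y))⟩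
  haveI : GeometricallyConnected (i ≫ h ≫ f) := geometricallyConnected_comp_of_surjective_closedImmersion (h ≫ f) i
  haveI : GeometricallyConnected (pullback.snd h ι ≫ ι ≫ f) := by
    rw [← pullback.condition_assoc]; infer_instance
  haveI : Nonempty ↥(pullback h ι) := ⟨(i.surjective y).choose⟩
  haveI := geometricallyConnected_of_source (pullback.snd h ι) (ι ≫ f)
  let s := Spec.map (CommRingCat.ofHom (algebraMap k K))
  haveI : ConnectedSpace ↥(pullback (ι ≫ f) s) :=
    GeometricallyConnected.geometrically_connectedSpace s _ _ (IsPullback.of_hasPullback _ _)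
  let m : pullback (ι ≫ f) s ⟶ pullback f s := pullback.map _ _ _ _ ι (𝟙 _) (𝟙 _) (by simp) (by simp)
  have hm : Set.range m = pullback.fst f s ⁻¹' connectedComponent (h y) := by
    rw [Scheme.Pullback.range_map, hι]
    ext z
    exact ⟨fun hz => hz.1, fun hz => ⟨hz, Set.mem_range.2 ⟨_, rfl⟩⟩⟩
  rw [← hm]
  exact isConnected_range m.continuous

end Groth.Agent.FBaseLib
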