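import Groth.Prelude.Def_FDesc
import Groth.Agent.FSchLib.IdealSheaf
import Groth.Agent.CAlgH.CIImmersion
import Groth.Agent.Props12.KerReduced
import Groth.Agent.FBaseLib.Geom
import Groth.Agent.VarietyLib.GeomComponents

/-!
# Lengths of local rings at maximal points under flat base change
-/

set_option autoImplicit false
set_option backward.isDefEq.respectTransparency.types false
set_option linter.style.haveILetI false

universe u

open CategoryTheory CategoryTheory.Limits AlgebraicGeometry IsLocalRing
open scoped TensorProduct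

namespace Groth.Agent.FBaseLib.StalkLength

variable {X X' : Scheme.{u}} (π : X' ⟶ X) [Flat π]

theorem maximalIdeal_le_nilradical {x : X} (hx : ∀ y, y ⤳ x → y = x) :
    maximalIdeal (X.presheaf.stalk x) ≤ nilradical (X.presheaf.stalk x) := by
  have : Subsingleton (PrimeSpectrum (X.presheaf.stalk x)) := ⟨fun a b => by
    refine (X.fromSpecStalk x).isEmbedding.injective ?_
    have : ∀ c, X.fromSpecStalk x c = x := fun c => hx _ (by
      have : X.fromSpecStalk x c ∈ Set.range (X.fromSpecStalk x) := ⟨c, rfl⟩
      rwa [Scheme.range_fromSpecStalk] at this)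
    exact (this a).trans (this b).symm⟩
  rw [nilradical_eq_sInf]
  refine le_sInf fun p hp => ?_
  exact le_of_eq (congrArg PrimeSpectrum.asIdeal (this.elim (IsLocalRing.closedPoint _) ⟨p, hp⟩))

/-- At a maximal point the nilradical generates the maximal ideal. -/
theorem map_germ_nilradical {x : X} (hx : ∀ y, y ⤳ x → y = x) (V : X.affineOpens) (hV : x ∈ V.1) :
    (X.nilradical.ideal V).map (X.presheaf.germ V.1 x hV).hom = maximalIdeal (X.presheaf.stalk x) := by
  let := X.presheaf.algebra_section_stalk ⟨x, hV⟩
  haveI : IsLocalization.AtPrime (X.presheaf.stalk x) (V.2.primeIdealOf ⟨x, hV⟩).asIdeal :=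
    V.2.isLocalization_stalk ⟨x, hV⟩
  have hnil : X.nilradical.ideal V = nilradical Γ(X, V.1) := by
    rw [← Scheme.IdealSheafData.radical_bot]; rfl
  rw [hnil]
  refine le_antisymm (Ideal.map_le_iff_le_comap.2 fun a ha => ?_) fun z hz => ?_
  · exact fun hu => ((mem_nilradical.1 ha).map _).not_isUnit hu
  · obtain ⟨a, s, rfl⟩ := IsLocalization.exists_mk'_eq (V.2.primeIdealOf ⟨x, hV⟩).asIdeal.primeCompl z
    obtain ⟨n, hn⟩ := mem_nilradical.1 (maximalIdeal_le_nilradical hx hz)
    rw [← IsLocalization.mk'_pow, IsLocalization.mk'_eq_zero_iff] at hn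
    obtain ⟨t, ht⟩ := hn
    have hta : IsNilpotent ((t : Γ(X, V.1)) * a) := ⟨n + 1, by
      rw [mul_pow, pow_succ, pow_succ, show (t : Γ(X, V.1)) ^ n * t * (a ^ n * a) = t ^ n * a * (t * a ^ n) by ring,
        ht, mul_zero]⟩
    have h1 : algebraMap _ (X.presheaf.stalk x) ((t : Γ(X, V.1)) * a) ∈
        (nilradical Γ(X, V.1)).map (X.presheaf.germ V.1 x hV).hom :=
      Ideal.mem_map_of_mem _ (mem_nilradical.2 hta)
    have ht' : IsUnit (algebraMap _ (X.presheaf.stalk x) (t : Γ(X, V.1))) :=
      IsLocalization.map_units (M := (V.2.primeIdealOf ⟨x, hV⟩).asIdeal.primeCompl) _ t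
    rw [map_mul, Ideal.unit_mul_mem_iff_mem _ ht'] at h1
    rw [IsLocalization.mk'_eq_mul_mk'_one]
    exact Ideal.mul_mem_right _ _ h1

omit [Flat π] in
theorem ker_stalkMap_fst {D : Scheme.{u}} (i : D ⟶ X) [IsClosedImmersion i] (z : ↥(pullback π i)) (V : X.affineOpens)
    (hq : π (pullback.fst π i z) ∈ V.1) :
    RingHom.ker ((pullback.fst π i).stalkMap z).hom =
      Ideal.map (π.stalkMap (pullback.fst π i z)).hom ((i.ker.ideal V).map (X.presheaf.germ V.1 _ hq).hom) := by
  obtain ⟨W, hW, hxW, hWV⟩ := exists_isAffineOpen_mem_and_subset (x := pullback.fst π i z) (U := π ⁻¹ᵁ V.1) hq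
  rw [CAlgH.CIImmersion.ker_stalkMap_eq (pullback.fst π i) z hW hxW, ← Scheme.Hom.ker_apply _ ⟨W, hW⟩,
    Scheme.IdealSheafData.ker_fst_of_isClosedImmersion i π, FSchLib.ideal_comap_eq_map π i.ker ⟨W, hW⟩ V hWV,
    Ideal.map_map, Ideal.map_map]
  congr 1
  ext b
  exact ((Scheme.Hom.germ_stalkMap_apply π V.1 _ hq b).trans
    (TopCat.Presheaf.germ_res_apply _ (homOfLE hWV) _ hxW _).symm).symm

/-- The length of the local ring upstairs is the product of the length downstairs and the length
of the local ring of the pullback of the reduction. -/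
theorem length_stalk_pullback (z : ↥(pullback π X.nilradical.subschemeι))
    (hx : ∀ y, y ⤳ pullback.fst π X.nilradical.subschemeι z → y = pullback.fst π X.nilradical.subschemeι z) :
    Module.length (X'.presheaf.stalk (pullback.fst π X.nilradical.subschemeι z))
        (X'.presheaf.stalk (pullback.fst π X.nilradical.subschemeι z)) =
      Module.length (X.presheaf.stalk (π (pullback.fst π X.nilradical.subschemeι z)))
          (X.presheaf.stalk (π (pullback.fst π X.nilradical.subschemeι z))) *
        Module.length ((pullback π X.nilradical.subschemeι).presheaf.stalk z)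
          ((pullback π X.nilradical.subschemeι).presheaf.stalk z) := by
  let p := pullback.fst π X.nilradical.subschemeι
  let x' := p z
  have hmax : ∀ y, y ⤳ π x' → y = π x' := fun y hy => by
    obtain ⟨y', hy', rfl⟩ := Flat.generalizingMap π hy
    rw [hx y' hy']
  obtain ⟨_, ⟨V, hV, rfl⟩, hxV, -⟩ :=
    X.isBasis_affineOpens.exists_subset_of_mem_open (Set.mem_univ (π x')) isOpen_univ
  have hker : RingHom.ker (p.stalkMap z).hom =
      (maximalIdeal (X.presheaf.stalk (π x'))).map (π.stalkMap x').hom := by
    rw [ker_stalkMap_fst π X.nilradical.subschemeι z ⟨V, hV⟩ hxV,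
      Scheme.IdealSheafData.ker_subschemeι, map_germ_nilradical hmax ⟨V, hV⟩ hxV]
  letI := (π.stalkMap x').hom.toAlgebra
  haveI : Module.Flat (X.presheaf.stalk (π x')) (X'.presheaf.stalk x') := Flat.stalkMap π x'
  haveI : IsLocalHom (algebraMap (X.presheaf.stalk (π x')) (X'.presheaf.stalk x')) :=
    inferInstanceAs (IsLocalHom (π.stalkMap x').hom)
  have hbc := IsLocalRing.length_baseChange (X.presheaf.stalk (π x')) (X'.presheaf.stalk x')
    (X.presheaf.stalk (π x'))
  rw [(Algebra.TensorProduct.rid (X.presheaf.stalk (π x')) (X'.presheaf.stalk x')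
    (X'.presheaf.stalk x')).toLinearEquiv.length_eq] at hbc
  rw [hbc]
  congr 1
  letI : Algebra (X'.presheaf.stalk x') ((pullback π X.nilradical.subschemeι).presheaf.stalk z) :=
    (p.stalkMap z).hom.toAlgebra
  have hs : Function.Surjective (algebraMap (X'.presheaf.stalk x')
      ((pullback π X.nilradical.subschemeι).presheaf.stalk z)) := p.stalkMap_surjective z
  rw [← Module.length_eq_of_surjective (S := X'.presheaf.stalk x') hs]
  exact (((Ideal.quotientEquivAlgOfEq _ hker.symm).trans
    (Ideal.quotientKerAlgEquivOfSurjective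
      (f := Algebra.ofId (X'.presheaf.stalk x') _) hs)).toLinearEquiv).length_eq

section Bc

variable {k : Type u} [Field k] (g : X ⟶ Spec (CommRingCat.of k)) {K : Type u} [Field K] [Algebra k K]

/-- The comparison map from the base change of the reduction. -/
noncomputable abbrev redMap :
    FBase.bc (X.nilradical.subschemeι ≫ g) K ⟶ FBase.bc g K :=
  pullback.map (X.nilradical.subschemeι ≫ g) (Spec.map (CommRingCat.ofHom (algebraMap k K))) g
    (Spec.map (CommRingCat.ofHom (algebraMap k K))) X.nilradical.subschemeι (𝟙 _) (𝟙 _)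
    (Category.comp_id _) ((Category.comp_id _).trans (Category.id_comp _).symm)

/-- The base change of the reduction as a pullback. -/
noncomputable def redIso :
    FBase.bc (X.nilradical.subschemeι ≫ g) K ≅ pullback (FBase.bcπ g K) X.nilradical.subschemeι :=
  (pullbackRightPullbackFstIso g (Spec.map (CommRingCat.ofHom (algebraMap k K)))
    X.nilradical.subschemeι).symm ≪≫ pullbackSymmetry _ _

theorem redIso_fst : (redIso g (K := K)).hom ≫ pullback.fst _ _ = redMap g := by
  show ((pullbackRightPullbackFstIso g (Spec.map (CommRingCat.ofHom (algebraMap k K)))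
      X.nilradical.subschemeι).inv ≫ (pullbackSymmetry _ _).hom) ≫ pullback.fst (pullback.fst g _) _ = _
  rw [Category.assoc, pullbackSymmetry_hom_comp_fst]
  refine pullback.hom_ext (Eq.trans ?_ (pullback.lift_fst _ _ _).symm)
    (Eq.trans ?_ ((pullback.lift_snd _ _ _).trans (Category.comp_id _)).symm)
  · simp
  · simp

theorem flat_bcπ : Flat (FBase.bcπ g K) := MorphismProperty.pullback_fst (P := @Flat) _ _ inferInstance

theorem length_stalk_bc (z : ↥(FBase.bc (X.nilradical.subschemeι ≫ g) K)) (x' : ↥(FBase.bc g K))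
    (hz : redMap g z = x') (hx : ∀ y, y ⤳ x' → y = x') :
    Module.length ((FBase.bc g K).presheaf.stalk x') ((FBase.bc g K).presheaf.stalk x') =
      Module.length (X.presheaf.stalk (FBase.bcπ g K x')) (X.presheaf.stalk (FBase.bcπ g K x')) *
        Module.length ((FBase.bc (X.nilradical.subschemeι ≫ g) K).presheaf.stalk z)
          ((FBase.bc (X.nilradical.subschemeι ≫ g) K).presheaf.stalk z) := by
  haveI := flat_bcπ g (K := K)
  let e := redIso g (K := K)
  have he : pullback.fst (FBase.bcπ g K) X.nilradical.subschemeι (e.hom z) = x' := by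
    rw [← hz, ← Scheme.Hom.comp_apply]
    exact congr($(redIso_fst g) z)
  subst he
  rw [length_stalk_pullback (FBase.bcπ g K) (e.hom z) hx]
  congr 1
  letI := (e.hom.stalkMap z).hom.toAlgebra
  have hb : Function.Bijective (e.hom.stalkMap z).hom := ConcreteCategory.bijective_of_isIso _
  rw [← Module.length_eq_of_surjective
    (S := (pullback (FBase.bcπ g K) X.nilradical.subschemeι).presheaf.stalk (e.hom z))
    (R := (FBase.bc (X.nilradical.subschemeι ≫ g) K).presheaf.stalk z) hb.2]
  exact (LinearEquiv.ofBijective (Algebra.linearMap _ _) hb).length_eq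

theorem surjective_redMap : Surjective (redMap g (K := K)) := by
  haveI : Surjective X.nilradical.subschemeι := ⟨fun x => by
    have : x ∈ Set.range X.nilradical.subschemeι := by
      rw [Scheme.IdealSheafData.range_subschemeι, Scheme.support_nilradical]; trivial
    exact this⟩
  haveI : Surjective (pullback.fst (FBase.bcπ g K) X.nilradical.subschemeι) :=
    MorphismProperty.pullback_fst (P := @Surjective) _ _ inferInstance
  rw [← redIso_fst g]
  infer_instance

theorem length_stalk_bc_of_geometricallyReduced
    [GeometricallyReduced (Spec.map (CommRingCat.ofHom (algebraMap k K)))]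
    (x' : ↥(FBase.bc g K)) (hx : ∀ y, y ⤳ x' → y = x') :
    Module.length ((FBase.bc g K).presheaf.stalk x') ((FBase.bc g K).presheaf.stalk x') =
      Module.length (X.presheaf.stalk (FBase.bcπ g K x')) (X.presheaf.stalk (FBase.bcπ g K x')) := by
  obtain ⟨z, hz⟩ := (surjective_redMap g (K := K)).1 x'
  rw [length_stalk_bc g z x' hz hx]
  haveI : AlgebraicGeometry.IsReduced X.nilradical.subscheme := by
    rw [← Scheme.IdealSheafData.vanishingIdeal_top]
    exact Props12.isReduced_subscheme_vanishingIdeal _
  haveI : AlgebraicGeometry.IsReduced (FBase.bc (X.nilradical.subschemeι ≫ g) K) := by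
    haveI := FBaseLib.isReduced_pullback (Spec.map (CommRingCat.ofHom (algebraMap k K)))
      (X.nilradical.subschemeι ≫ g)
    exact isReduced_of_isOpenImmersion (pullbackSymmetry (X.nilradical.subschemeι ≫ g) _).hom
  have hzmax : ∀ y, y ⤳ z → y = z := fun y hy => by
    haveI : IsClosedImmersion (pullback.fst (FBase.bcπ g K) X.nilradical.subschemeι) := inferInstance
    haveI : IsClosedImmersion (redMap g (K := K)) := by rw [← redIso_fst g]; infer_instance
    refine (redMap g (K := K)).isClosedEmbedding.injective ?_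
    rw [hz]
    exact hx _ (hz ▸ hy.map (redMap g (K := K)).continuous)
  have hf : IsField ((FBase.bc (X.nilradical.subschemeι ≫ g) K).presheaf.stalk z) := by
    rw [IsLocalRing.isField_iff_maximalIdeal_eq, eq_bot_iff]
    refine (maximalIdeal_le_nilradical hzmax).trans ?_
    rw [nilradical_eq_zero, Ideal.zero_eq_bot]
  letI := hf.toField
  rw [Module.length_eq_one ((FBase.bc (X.nilradical.subschemeι ≫ g) K).presheaf.stalk z)
    ((FBase.bc (X.nilradical.subschemeι ≫ g) K).presheaf.stalk z), mul_one]

end Bc

end Groth.Agent.FBaseLib.StalkLength
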