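import Mathlib
import Groth.Agent.FBaseLib.Geom

/-!
# Components of products and of base changes
-/

set_option autoImplicit false
set_option backward.isDefEq.respectTransparency false

universe u

open CategoryTheory CategoryTheory.Limits AlgebraicGeometry TopologicalSpace

namespace Groth.Agent.FBaseLib

/-- The reduced subscheme of a closed set. -/
theorem exists_subscheme {Y : Scheme.{u}} {C : Set Y} (hC : IsClosed C) :
    ∃ (D : Scheme.{u}) (ι : D ⟶ Y), IsClosedImmersion ι ∧ Set.range ι = C := by
  let I := Scheme.IdealSheafData.vanishingIdeal (⟨C, hC⟩ : Closeds Y)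
  refine ⟨I.subscheme, I.subschemeι, inferInstance, ?_⟩
  rw [Scheme.IdealSheafData.range_subschemeι]
  exact congrArg SetLike.coe (show I.support = ⟨C, hC⟩ from TopologicalSpace.Closeds.ext rfl)

/-- Within the preimage of a closed set, the projection of a product is still generalising. -/
theorem exists_generalization {k : Type u} [Field k] {X Y : Scheme.{u}} (f : X ⟶ Spec (CommRingCat.of k))
    (g : Y ⟶ Spec (CommRingCat.of k)) {C : Set Y} (hC : IsClosed C) (z : ↥(pullback f g))
    (hz : pullback.snd f g z ∈ C) {ξ : X} (hξ : ξ ⤳ pullback.fst f g z) :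
    ∃ z', z' ⤳ z ∧ pullback.fst f g z' = ξ ∧ pullback.snd f g z' ∈ C := by
  obtain ⟨D, ι, hι, hrange⟩ := exists_subscheme hC
  let m : pullback f (ι ≫ g) ⟶ pullback f g := pullback.map _ _ _ _ (𝟙 _) ι (𝟙 _) (by simp) (by simp)
  have hm1 : m ≫ pullback.fst f g = pullback.fst f (ι ≫ g) := by simp [m]
  have hm2 : m ≫ pullback.snd f g = pullback.snd f (ι ≫ g) ≫ ι := by simp [m]
  obtain ⟨w, rfl⟩ : z ∈ Set.range m := by
    rw [Scheme.Pullback.range_map]
    exact ⟨Set.mem_range.2 ⟨_, rfl⟩, hrange.symm ▸ hz⟩
  haveI : Flat (pullback.fst f (ι ≫ g)) := MorphismProperty.pullback_fst (P := @Flat) _ _ inferInstance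
  obtain ⟨w', hw', hw'ξ⟩ := Flat.generalizingMap (pullback.fst f (ι ≫ g))
    (show ξ ⤳ pullback.fst f (ι ≫ g) w by rw [← hm1]; exact hξ)
  refine ⟨m w', hw'.map m.continuous, ?_, ?_⟩
  · rw [← Scheme.Hom.comp_apply, hm1]; exact hw'ξ
  · rw [← Scheme.Hom.comp_apply, hm2, ← hrange]
    exact ⟨_, rfl⟩

/-- The symmetric statement. -/
theorem exists_generalization' {k : Type u} [Field k] {X Y : Scheme.{u}} (f : X ⟶ Spec (CommRingCat.of k))
    (g : Y ⟶ Spec (CommRingCat.of k)) {C : Set X} (hC : IsClosed C) (z : ↥(pullback f g))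
    (hz : pullback.fst f g z ∈ C) {η : Y} (hη : η ⤳ pullback.snd f g z) :
    ∃ z', z' ⤳ z ∧ pullback.snd f g z' = η ∧ pullback.fst f g z' ∈ C := by
  let e := pullbackSymmetry f g
  have h1 : ∀ w, pullback.snd g f (e.hom w) = pullback.fst f g w := fun w => by
    rw [← Scheme.Hom.comp_apply, pullbackSymmetry_hom_comp_snd]
  have h2 : ∀ w, pullback.fst g f (e.hom w) = pullback.snd f g w := fun w => by
    rw [← Scheme.Hom.comp_apply, pullbackSymmetry_hom_comp_fst]
  obtain ⟨w, hw, hwη, hwC⟩ := exists_generalization g f hC (e.hom z) (by rw [h1]; exact hz) (ξ := η) (by rw [h2]; exact hη)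
  have he : e.hom (e.inv w) = w := by
    rw [← Scheme.Hom.comp_apply, e.inv_hom_id]
    rfl
  refine ⟨e.inv w, ?_, ?_, ?_⟩
  · have := hw.map e.inv.continuous
    rwa [← Scheme.Hom.comp_apply e.hom e.inv, e.hom_inv_id] at this
  · rw [← h2, he]; exact hwη
  · rw [← h1, he]; exact hwC

theorem generalizingMap_of_flat_fst {k : Type u} [Field k] {X Y : Scheme.{u}} (f : X ⟶ Spec (CommRingCat.of k))
    (g : Y ⟶ Spec (CommRingCat.of k)) : GeneralizingMap (pullback.fst f g) :=
  haveI : Flat (pullback.fst f g) := MorphismProperty.pullback_fst (P := @Flat) _ _ inferInstance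
  Flat.generalizingMap _

theorem generalizingMap_of_flat_snd {k : Type u} [Field k] {X Y : Scheme.{u}} (f : X ⟶ Spec (CommRingCat.of k))
    (g : Y ⟶ Spec (CommRingCat.of k)) : GeneralizingMap (pullback.snd f g) :=
  haveI : Flat (pullback.snd f g) := MorphismProperty.pullback_snd (P := @Flat) _ _ inferInstance
  Flat.generalizingMap _

/-- Irreducible components of a product over a field. -/
theorem mem_irreducibleComponents_pullback {k : Type u} [Field k] {X Y : Scheme.{u}}
    (f : X ⟶ Spec (CommRingCat.of k)) (g : Y ⟶ Spec (CommRingCat.of k)) (W : Set ↥(pullback f g)) :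
    W ∈ irreducibleComponents ↥(pullback f g) ↔
      ∃ X' ∈ irreducibleComponents ↥X, ∃ Y' ∈ irreducibleComponents ↥Y,
        Maximal (fun V : Set ↥(pullback f g) =>
          IsIrreducible V ∧ V ⊆ ⇑(pullback.fst f g) ⁻¹' X' ∩ ⇑(pullback.snd f g) ⁻¹' Y') W := by
  let p := pullback.fst f g
  let q := pullback.snd f g
  constructor
  · intro hW
    obtain ⟨ζ, hζ, rfl⟩ := VarietyLib.exists_genericPoint_of_component hW
    refine ⟨closure {p ζ}, ?_, closure {q ζ}, ?_, ⟨hW.1, ?_⟩, fun V hV hle => hW.2 hV.1 hle⟩
    · exact (genericPoints.component ⟨_, VarietyLib.generalizing_genericPoints (generalizingMap_of_flat_fst f g) hζ⟩).2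
    · exact (genericPoints.component ⟨_, VarietyLib.generalizing_genericPoints (generalizingMap_of_flat_snd f g) hζ⟩).2
    · exact fun z hz => ⟨(specializes_iff_mem_closure.2 hz).map p.continuous |>.mem_closure,
        (specializes_iff_mem_closure.2 hz).map q.continuous |>.mem_closure⟩
  · rintro ⟨X', hX', Y', hY', ⟨hWirr, hWsub⟩, hmax⟩
    obtain ⟨ξ, hξ, rfl⟩ := VarietyLib.exists_genericPoint_of_component hX'
    obtain ⟨η, hη, rfl⟩ := VarietyLib.exists_genericPoint_of_component hY'
    let S := p ⁻¹' closure {ξ} ∩ q ⁻¹' closure {η}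
    have hS : IsClosed S := (isClosed_closure.preimage p.continuous).inter (isClosed_closure.preimage q.continuous)
    obtain ⟨ζ, hζ⟩ := QuasiSober.sober hWirr.closure isClosed_closure
    have hζS : ζ ∈ S := (hS.closure_subset_iff.2 hWsub) hζ.mem
    have hWζ : W = closure {ζ} := subset_antisymm (subset_closure.trans hζ.def.ge)
      (hmax ⟨isIrreducible_singleton.closure, hS.closure_subset_iff.2 (Set.singleton_subset_iff.2 hζS)⟩
        (subset_closure.trans hζ.def.ge))
    have key : ∀ z, z ⤳ ζ → z ∈ S → z = ζ := fun z hz hzS => by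
      have h1 : closure {ζ} ⊆ closure {z} := specializes_iff_closure_subset.1 hz
      have h2 := hmax ⟨isIrreducible_singleton.closure, hS.closure_subset_iff.2 (Set.singleton_subset_iff.2 hzS)⟩
        (hWζ ▸ h1)
      rw [hWζ] at h2
      exact IsGenericPoint.eq (isGenericPoint_closure) (show IsGenericPoint ζ (closure {z}) from h1.antisymm h2)
    have hp : p ζ = ξ := by
      obtain ⟨z, hz, hzξ, hzC⟩ := exists_generalization f g (C := closure {η}) isClosed_closure ζ hζS.2 (ξ := ξ)
        (specializes_iff_mem_closure.2 hζS.1)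
      have h : pullback.fst f g z ∈ closure {ξ} := by rw [hzξ]; exact subset_closure rfl
      rw [← key z hz ⟨h, hzC⟩]; exact hzξ
    have hq : q ζ = η := by
      obtain ⟨z, hz, hzη, hzC⟩ := exists_generalization' f g (C := closure {ξ}) isClosed_closure ζ hζS.1 (η := η)
        (specializes_iff_mem_closure.2 hζS.2)
      have h : pullback.snd f g z ∈ closure {η} := by rw [hzη]; exact subset_closure rfl
      rw [← key z hz ⟨hzC, h⟩]; exact hzη
    have hmem : ζ ∈ genericPoints ↥(pullback f g) := by
      rw [VarietyLib.mem_genericPoints_iff]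
      intro z hz
      refine key z hz ⟨?_, ?_⟩
      · show p z ∈ closure {ξ}
        rw [VarietyLib.eq_of_specializes_genericPoints hξ (show p z ⤳ ξ from hp ▸ hz.map p.continuous)]
        exact subset_closure rfl
      · show q z ∈ closure {η}
        rw [VarietyLib.eq_of_specializes_genericPoints hη (show q z ⤳ η from hq ▸ hz.map q.continuous)]
        exact subset_closure rfl
    rw [hWζ]
    exact (genericPoints.component ⟨ζ, hmem⟩).2

section Count

variable {k : Type u} [Field k] {X : Scheme.{u}} (f : X ⟶ Spec (CommRingCat.of k))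

/-- A common extension of two extensions, with algebraically closed target. -/
theorem exists_common_field (K Ω : Type u) [Field K] [Field Ω] [Algebra k K] [Algebra k Ω] :
    ∃ (M : Type u) (_ : Field M) (i : K →+* M) (j : Ω →+* M),
      i.comp (algebraMap k K) = j.comp (algebraMap k Ω) := by
  haveI : Surjective (Spec.map (CommRingCat.ofHom (algebraMap k Ω))) := surjective_to_field _
  obtain ⟨L, _, i, σ, hσ⟩ :=
    exists_lift_point (Spec.map (CommRingCat.ofHom (algebraMap k Ω))) (Spec.map (CommRingCat.ofHom (algebraMap k K)))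
  obtain ⟨φ, rfl⟩ := Spec.map_surjective σ
  refine ⟨L, inferInstance, i, φ.hom, ?_⟩
  rw [← Spec.map_comp, ← Spec.map_comp] at hσ
  exact congrArg CommRingCat.Hom.hom (Spec.map_injective hσ).symm

/-- The transition map between two base changes. -/
noncomputable def bcTr {K M : Type u} [Field K] [Field M] [Algebra k K] [Algebra k M] (i : K →ₐ[k] M) :
    pullback f (Spec.map (CommRingCat.ofHom (algebraMap k M))) ⟶
      pullback f (Spec.map (CommRingCat.ofHom (algebraMap k K))) :=
  pullback.map _ _ _ _ (𝟙 X) (Spec.map (CommRingCat.ofHom i.toRingHom)) (𝟙 _) (by simp)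
    (by
      rw [Category.comp_id, ← Spec.map_comp, ← CommRingCat.ofHom_comp]
      exact congrArg _ (congrArg _ (RingHom.ext fun c => (i.commutes c).symm)))

theorem isPullback_bcTr {K M : Type u} [Field K] [Field M] [Algebra k K] [Algebra k M] (i : K →ₐ[k] M) :
    IsPullback (bcTr f i) (pullback.snd f (Spec.map (CommRingCat.ofHom (algebraMap k M))))
      (pullback.snd f (Spec.map (CommRingCat.ofHom (algebraMap k K)))) (Spec.map (CommRingCat.ofHom i.toRingHom)) := by
  refine IsPullback.of_right (h₁₂ := pullback.fst f _) ?_ (by simp [bcTr]) (IsPullback.of_hasPullback f _)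
  simpa [bcTr, ← Spec.map_comp, ← CommRingCat.ofHom_comp, AlgHom.comp_algebraMap] using
    IsPullback.of_hasPullback f (Spec.map (CommRingCat.ofHom (algebraMap k M)))

theorem surjective_bcTr {K M : Type u} [Field K] [Field M] [Algebra k K] [Algebra k M] (i : K →ₐ[k] M) :
    Surjective (bcTr f i) :=
  MorphismProperty.of_isPullback (isPullback_bcTr f i).flip (surjective_to_field _)

theorem flat_bcTr {K M : Type u} [Field K] [Field M] [Algebra k K] [Algebra k M] (i : K →ₐ[k] M) :
    Flat (bcTr f i) :=
  MorphismProperty.of_isPullback (isPullback_bcTr f i).flip (inferInstanceAs (Flat (Spec.map _)))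

theorem geometricallyIrreducible_bcTr {K M : Type u} [Field K] [IsAlgClosed K] [Field M] [Algebra k K] [Algebra k M]
    (i : K →ₐ[k] M) : GeometricallyIrreducible (bcTr f i) := by
  letI := i.toRingHom.toAlgebra
  exact MorphismProperty.of_isPullback (isPullback_bcTr f i).flip (VarietyLib.geometricallyIrreducible_algSpec K M)

theorem isOpenMap_bcTr {K M : Type u} [Field K] [Field M] [Algebra k K] [Algebra k M] (i : K →ₐ[k] M) :
    IsOpenMap (bcTr f i) := by
  haveI : UniversallyOpen (bcTr f i) :=
    MorphismProperty.of_isPullback (isPullback_bcTr f i).flip (inferInstanceAs (UniversallyOpen (Spec.map _)))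
  exact (bcTr f i).isOpenMap

theorem mk_irreducibleComponents_le {K Ω : Type u} [Field K] [Algebra k K] [Field Ω] [Algebra k Ω] [IsAlgClosed Ω] :
    Cardinal.mk (irreducibleComponents ↥(pullback f (Spec.map (CommRingCat.ofHom (algebraMap k K))))) ≤
      Cardinal.mk (irreducibleComponents ↥(pullback f (Spec.map (CommRingCat.ofHom (algebraMap k Ω))))) := by
  obtain ⟨M, _, i₀, j₀, hij⟩ := exists_common_field (k := k) K Ω
  letI : Algebra k M := (i₀.comp (algebraMap k K)).toAlgebra
  let i : K →ₐ[k] M := { i₀ with commutes' := fun _ => rfl }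
  let j : Ω →ₐ[k] M := { j₀ with commutes' := fun c => (RingHom.congr_fun hij c).symm }
  let q := bcTr f i
  let r := bcTr f j
  haveI := surjective_bcTr f i
  haveI := flat_bcTr f i
  haveI := flat_bcTr f j
  haveI := geometricallyIrreducible_bcTr f j
  let G := genericPoints ↥(pullback f (Spec.map (CommRingCat.ofHom (algebraMap k M))))
  have h1 : ∀ ξ : genericPoints ↥(pullback f (Spec.map (CommRingCat.ofHom (algebraMap k K)))),
      ∃ ζ : G, q ζ = ξ := fun ξ => by
    obtain ⟨z, hz⟩ := q.surjective ξ.1
    obtain ⟨ζ, hζ, hζz⟩ := VarietyLib.exists_genericPoints_specializes z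
    exact ⟨⟨ζ, hζ⟩, VarietyLib.eq_of_specializes_genericPoints ξ.2 (hz ▸ hζz.map q.continuous)⟩
  choose s hs using h1
  have hsinj : Function.Injective s := fun a b h => Subtype.ext (by rw [← hs a, ← hs b, h])
  let t : G → genericPoints ↥(pullback f (Spec.map (CommRingCat.ofHom (algebraMap k Ω)))) := fun ζ =>
    ⟨r ζ, VarietyLib.generalizing_genericPoints (Flat.generalizingMap r) ζ.2⟩
  have htinj : Function.Injective t := fun a b h => by
    have hab : r a.1 = r b.1 := congrArg Subtype.val h
    have hirr := r.isIrreducible_preimage (isOpenMap_bcTr f j) (isIrreducible_singleton (x := r a.1)).closure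
    have hcl : IsClosed (r ⁻¹' closure {r a.1}) := isClosed_closure.preimage r.continuous
    obtain ⟨z, hz⟩ := QuasiSober.sober hirr hcl
    have ha : z ⤳ a.1 := hz.specializes (show r a.1 ∈ closure {r a.1} from subset_closure rfl)
    have hb : z ⤳ b.1 := hz.specializes (show r b.1 ∈ closure {r a.1} by rw [← hab]; exact subset_closure rfl)
    exact Subtype.ext ((VarietyLib.eq_of_specializes_genericPoints a.2 ha).symm.trans
      (VarietyLib.eq_of_specializes_genericPoints b.2 hb))
  rw [← Cardinal.mk_congr genericPoints.equiv, ← Cardinal.mk_congr genericPoints.equiv]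
  exact Cardinal.mk_le_of_injective (f := t ∘ s) (htinj.comp hsinj)

theorem mk_connectedComponents_le {K Ω : Type u} [Field K] [Algebra k K] [Field Ω] [Algebra k Ω] [IsAlgClosed Ω] :
    Cardinal.mk (_root_.ConnectedComponents ↥(pullback f (Spec.map (CommRingCat.ofHom (algebraMap k K))))) ≤
      Cardinal.mk (_root_.ConnectedComponents ↥(pullback f (Spec.map (CommRingCat.ofHom (algebraMap k Ω))))) := by
  obtain ⟨M, _, i₀, j₀, hij⟩ := exists_common_field (k := k) K Ω
  letI : Algebra k M := (i₀.comp (algebraMap k K)).toAlgebra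
  let i : K →ₐ[k] M := { i₀ with commutes' := fun _ => rfl }
  let j : Ω →ₐ[k] M := { j₀ with commutes' := fun c => (RingHom.congr_fun hij c).symm }
  let q := bcTr f i
  let r := bcTr f j
  haveI := surjective_bcTr f i
  haveI := geometricallyIrreducible_bcTr f j
  have hconn : ∀ {Z : Set _}, _root_.IsConnected Z → _root_.IsConnected (r ⁻¹' Z) := fun hZ =>
    isConnected_preimage (isOpenMap_bcTr f j)
      (fun y => (r.isIrreducible_preimage (isOpenMap_bcTr f j) isIrreducible_singleton).isConnected) hZ
  let qq := Continuous.connectedComponentsMap q.continuous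
  let rr := Continuous.connectedComponentsMap r.continuous
  have hq : Function.Surjective qq := fun c => by
    obtain ⟨x, rfl⟩ := ConnectedComponents.surjective_coe c
    obtain ⟨z, rfl⟩ := q.surjective x
    exact ⟨z, rfl⟩
  have hr : Function.Injective rr := fun a b h => by
    obtain ⟨a, rfl⟩ := ConnectedComponents.surjective_coe a
    obtain ⟨b, rfl⟩ := ConnectedComponents.surjective_coe b
    have h' : connectedComponent (r a) = connectedComponent (r b) := ConnectedComponents.coe_eq_coe.1 h
    refine ConnectedComponents.coe_eq_coe'.2 ?_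
    exact (hconn (isConnected_connectedComponent (x := r b))).isPreconnected.subset_connectedComponent
      (show b ∈ r ⁻¹' connectedComponent (r b) from mem_connectedComponent)
      (show r a ∈ connectedComponent (r b) from h' ▸ mem_connectedComponent)
  exact (Cardinal.mk_le_of_surjective hq).trans (Cardinal.mk_le_of_injective hr)

end Count

end Groth.Agent.FBaseLib
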